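import Mathlib.GroupTheory.Nilpotent
import Mathlib.GroupTheory.Perm.Cycle.Type
import Mathlib.GroupTheory.PGroup
import Mathlib.GroupTheory.Solvable
import Mathlib.Data.Nat.Choose.Dvd
import Mathlib.Tactic.Group

/-!
# Powerfully embedded subgroups of a finite p-group

* `pw p N i`: the `i`-fold iterated subgroup of `p`-th powers of `N`
* `PE p N`: `N` is normal with `⁅N, ⊤⁆ ≤ N ^ p` (`N ^ 4` for `p = 2`)
* `PE.commutator`, `PE.pw`, `PE.derivedSeries`: closure properties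
* `commutator_pw`: `⁅N ^ (p ^ i), M ^ (p ^ j)⁆ = ⁅N, M⁆ ^ (p ^ (i + j))`
* `relIndex_succ_le`, `mem_succ_of_pow`: the `p`-th power between consecutive layers of a powerful group
-/

set_option autoImplicit false

namespace Cfsg.Agent.Powerful

open scoped commutatorElement

universe u v

variable {R : Type u} [Group R]

/-- The iterated subgroups of `p`-th powers. -/
def pw (p : ℕ) (N : Subgroup R) : ℕ → Subgroup R
  | 0 => N
  | i + 1 => Subgroup.closure ((fun x => x ^ p) '' (pw p N i : Set R))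

/-- The exponent in the definition of powerful embedding. -/
def eps (p : ℕ) : ℕ := if p = 2 then 2 else 1

/-- Powerfully embedded subgroups. -/
structure PE (p : ℕ) (N : Subgroup R) : Prop where
  normal : N.Normal
  comm : ⁅N, (⊤ : Subgroup R)⁆ ≤ pw p N (eps p)

variable {p : ℕ}

theorem one_le_eps (p : ℕ) : 1 ≤ eps p := by
  unfold eps
  split <;> omega

@[simp] theorem pw_zero (N : Subgroup R) : pw p N 0 = N := rfl

theorem pow_mem_pw_succ {N : Subgroup R} {i : ℕ} {x : R} (hx : x ∈ pw p N i) : x ^ p ∈ pw p N (i + 1) :=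
  Subgroup.subset_closure ⟨x, hx, rfl⟩

theorem pow_pow_mem_pw {N : Subgroup R} {i : ℕ} {x : R} (hx : x ∈ pw p N i) (j : ℕ) :
    x ^ p ^ j ∈ pw p N (i + j) := by
  induction j with
  | zero => simpa using hx
  | succ j ih => rw [pow_succ, pow_mul]; exact pow_mem_pw_succ ih

theorem pw_pw (N : Subgroup R) (i j : ℕ) : pw p (pw p N i) j = pw p N (i + j) := by
  induction j with
  | zero => rfl
  | succ j ih =>
    rw [show i + (j + 1) = i + j + 1 from rfl]
    show Subgroup.closure _ = Subgroup.closure _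
    rw [ih]

theorem pw_mono {N M : Subgroup R} (h : N ≤ M) (i : ℕ) : pw p N i ≤ pw p M i := by
  induction i with
  | zero => exact h
  | succ i ih => exact Subgroup.closure_mono (Set.image_mono ih)

theorem pw_antitone (N : Subgroup R) {i j : ℕ} (h : i ≤ j) : pw p N j ≤ pw p N i := by
  induction h with
  | refl => exact le_rfl
  | @step j _ ih =>
    refine le_trans ((Subgroup.closure_le _).2 ?_) ih
    rintro _ ⟨x, hx, rfl⟩
    exact pow_mem hx p

theorem map_pw {R' : Type v} [Group R'] (f : R →* R') (N : Subgroup R) (i : ℕ) :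
    (pw p N i).map f = pw p (N.map f) i := by
  induction i with
  | zero => rfl
  | succ i ih =>
    show (Subgroup.closure _).map f = Subgroup.closure _
    rw [MonoidHom.map_closure, ← ih, Subgroup.coe_map, Set.image_image, Set.image_image]
    simp_rw [map_pow]

theorem map_conj_eq (N : Subgroup R) [hN : N.Normal] (g : R) : N.map (MulAut.conj g).toMonoidHom = N := by
  refine le_antisymm ?_ fun x hx => ⟨g⁻¹ * x * g, by simpa using hN.conj_mem x hx g⁻¹, by simp [mul_assoc]⟩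
  rintro _ ⟨y, hy, rfl⟩
  exact hN.conj_mem y hy g

theorem pw_normal (N : Subgroup R) [N.Normal] (i : ℕ) : (pw p N i).Normal :=
  ⟨fun x hx g => by
    have h : (pw p N i).map (MulAut.conj g).toMonoidHom = pw p N i := by rw [map_pw, map_conj_eq]
    exact h.le ⟨x, hx, rfl⟩⟩

theorem map_mk'_eq_bot {T : Subgroup R} [T.Normal] {X : Subgroup R} :
    X.map (QuotientGroup.mk' T) = ⊥ ↔ X ≤ T := by
  rw [Subgroup.map_eq_bot_iff, QuotientGroup.ker_mk']

theorem map_mk'_top (T : Subgroup R) [T.Normal] :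
    (⊤ : Subgroup R).map (QuotientGroup.mk' T) = ⊤ :=
  Subgroup.map_top_of_surjective _ (QuotientGroup.mk'_surjective T)

theorem PE.map {R' : Type v} [Group R'] {N : Subgroup R} (h : PE p N) {f : R →* R'}
    (hf : Function.Surjective f) : PE p (N.map f) := by
  haveI := h.normal
  refine ⟨Subgroup.Normal.map h.normal f hf, ?_⟩
  rw [← Subgroup.map_top_of_surjective f hf, ← Subgroup.map_commutator, ← map_pw]
  exact Subgroup.map_mono h.comm

/-! ### Elementary commutator calculus -/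

theorem comm_closure_le {S : Set R} {M T : Subgroup R} [hT : T.Normal]
    (h : ∀ s ∈ S, ∀ m ∈ M, ⁅s, m⁆ ∈ T) : ⁅Subgroup.closure S, M⁆ ≤ T := by
  rw [Subgroup.commutator_le]
  intro a ha
  induction ha using Subgroup.closure_induction with
  | mem s hs => exact h s hs
  | one => intro m _; simpa using one_mem T
  | mul a b _ _ ha hb =>
    intro m hm
    rw [commutatorElement_mul_left_eq_conj_mul]
    exact mul_mem (hT.conj_mem _ (hb m hm) a) (ha m hm)
  | inv a _ ha =>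
    intro m hm
    have h1 := hT.conj_mem _ (inv_mem (ha m hm)) a⁻¹
    rw [inv_inv] at h1
    rwa [show ⁅a⁻¹, m⁆ = a⁻¹ * ⁅a, m⁆⁻¹ * a by simp [commutatorElement_def, mul_assoc]]

theorem comm_pw_succ_le {N M T : Subgroup R} [T.Normal] {i : ℕ}
    (h : ∀ x ∈ pw p N i, ∀ y ∈ M, ⁅x ^ p, y⁆ ∈ T) : ⁅pw p N (i + 1), M⁆ ≤ T :=
  comm_closure_le (by rintro _ ⟨x, hx, rfl⟩ m hm; exact h x hx m hm)

theorem rotate_le {N M L T : Subgroup R} [T.Normal] (h1 : ⁅⁅M, L⁆, N⁆ ≤ T) (h2 : ⁅⁅L, N⁆, M⁆ ≤ T) :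
    ⁅⁅N, M⁆, L⁆ ≤ T := by
  rw [← map_mk'_eq_bot, Subgroup.map_commutator, Subgroup.map_commutator] at h1 h2 ⊢
  exact Subgroup.commutator_commutator_eq_bot_of_rotate h1 h2

theorem comm_pow_left {x y : R} (hxc : Commute ⁅x, ⁅x, y⁆⁆ x) (hcc : Commute ⁅x, ⁅x, y⁆⁆ ⁅x, y⁆) (i : ℕ) :
    ⁅x ^ i, y⁆ = ⁅x, ⁅x, y⁆⁆ ^ (i.choose 2) * ⁅x, y⁆ ^ i := by
  set c := ⁅x, y⁆ with hc
  set z := ⁅x, c⁆ with hz
  induction i with
  | zero => simp
  | succ i ih =>
    have hconj : x * c * x⁻¹ = z * c := by rw [hz, commutatorElement_def]; group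
    have h1 : x * z ^ i.choose 2 * x⁻¹ = z ^ i.choose 2 := by
      rw [← (hxc.pow_left _).eq, mul_inv_cancel_right]
    have h2 : x * c ^ i * x⁻¹ = z ^ i * c ^ i := by
      rw [← conj_pow, hconj, hcc.mul_pow]
    rw [pow_succ' x, commutatorElement_mul_left_eq_conj_mul, ih, ← hc,
      show x * (z ^ i.choose 2 * c ^ i) * x⁻¹ = (x * z ^ i.choose 2 * x⁻¹) * (x * c ^ i * x⁻¹) by group,
      h1, h2, Nat.choose_succ_succ' i 1, Nat.choose_one_right, pow_add, pow_succ c]
    rw [(Commute.pow_pow_self z i _).eq]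
    group

theorem comm_pow_right {x c : R} (h : Commute c ⁅x, c⁆) (i : ℕ) : ⁅x, c ^ i⁆ = ⁅x, c⁆ ^ i := by
  induction i with
  | zero => simp
  | succ i ih =>
    rw [pow_succ', commutatorElement_mul_right_eq_mul_conj, ih, pow_succ',
      show ⁅x, c⁆ * c * ⁅x, c⁆ ^ i * c⁻¹ = ⁅x, c⁆ * (c * ⁅x, c⁆ ^ i * c⁻¹) by group,
      (h.pow_right i).eq, mul_inv_cancel_right]

theorem mul_pow_comm {a b : R} (ha : Commute ⁅b, a⁆ a) (hb : Commute ⁅b, a⁆ b) (n : ℕ) :
    (a * b) ^ n = a ^ n * b ^ n * ⁅b, a⁆ ^ n.choose 2 := by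
  set w := ⁅b, a⁆ with hw
  induction n with
  | zero => simp
  | succ n ih =>
    have hswap : b * a = w * (a * b) := by rw [hw, commutatorElement_def]; group
    have hba : ∀ k : ℕ, b ^ k * a = w ^ k * (a * b ^ k) := by
      intro k
      induction k with
      | zero => simp
      | succ k ihk =>
        calc b ^ (k + 1) * a = b ^ k * (b * a) := by rw [pow_succ, mul_assoc]
          _ = b ^ k * (w * (a * b)) := by rw [hswap]
          _ = w * (b ^ k * a) * b := by
            rw [← mul_assoc (b ^ k), ← (hb.pow_right k).eq]; group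
          _ = w * (w ^ k * (a * b ^ k)) * b := by rw [ihk]
          _ = _ := by rw [pow_succ' w, pow_succ b]; group
    have hk : n.choose 2 + n = (n + 1).choose 2 := by
      rw [Nat.choose_succ_succ' n 1, Nat.choose_one_right, add_comm]
    have hwab : Commute (w ^ n.choose 2) (a * b) := ((ha.pow_left _).mul_right (hb.pow_left _))
    calc (a * b) ^ (n + 1) = a ^ n * b ^ n * w ^ n.choose 2 * (a * b) := by rw [pow_succ, ih]
      _ = a ^ n * (b ^ n * a) * b * w ^ n.choose 2 := by rw [mul_assoc (a ^ n * b ^ n), hwab.eq]; group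
      _ = a ^ n * (w ^ n * (a * b ^ n)) * b * w ^ n.choose 2 := by rw [hba]
      _ = a ^ n * (a * b ^ n) * b * (w ^ n * w ^ n.choose 2) := by
        have h1 : Commute (w ^ n) (a * b ^ n * b) :=
          ((ha.pow_left _).mul_right (hb.pow_pow _ _)).mul_right (hb.pow_left _)
        calc a ^ n * (w ^ n * (a * b ^ n)) * b * w ^ n.choose 2
            = a ^ n * (w ^ n * (a * b ^ n * b)) * w ^ n.choose 2 := by group
          _ = _ := by rw [h1.eq]; group
      _ = _ := by rw [← pow_add, add_comm n, hk, pow_succ a, pow_succ b]; group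

theorem mem_center_of_comm_eq_bot {X : Subgroup R} (h : ⁅X, (⊤ : Subgroup R)⁆ = ⊥) {z : R} (hz : z ∈ X)
    (r : R) : Commute z r :=
  commutatorElement_eq_one_iff_mul_comm.1
    (Subgroup.mem_bot.1 (h ▸ Subgroup.commutator_mem_commutator hz (Subgroup.mem_top r)))

theorem dvd_choose_two [hp : Fact p.Prime] (h : p ≠ 2) : p ∣ p.choose 2 := by
  have := hp.out.two_le
  exact hp.out.dvd_choose_self (by norm_num) (by omega)

theorem eps_of_ne_two (h : p ≠ 2) : eps p = 1 := if_neg h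

/-! ### Reduction lemmas for finite p-groups -/

section PGroup

variable [Finite R] [hp : Fact p.Prime]

theorem le_of_le_sup_commutator (hR : IsPGroup p R) {A B : Subgroup R} [B.Normal]
    (h : A ≤ B ⊔ ⁅A, (⊤ : Subgroup R)⁆) : A ≤ B := by
  rw [← map_mk'_eq_bot]
  set π := QuotientGroup.mk' B
  have h1 : A.map π ≤ ⁅A.map π, (⊤ : Subgroup (R ⧸ B))⁆ := by
    refine (Subgroup.map_mono h).trans ?_
    rw [Subgroup.map_sup, map_mk'_eq_bot.2 le_rfl, bot_sup_eq, Subgroup.map_commutator, map_mk'_top]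
  haveI : Group.IsNilpotent (R ⧸ B) := (hR.to_quotient B).isNilpotent
  obtain ⟨c, hc⟩ := Subgroup.nilpotent_iff_lowerCentralSeries.1 (inferInstance : Group.IsNilpotent (R ⧸ B))
  have h2 : ∀ j, A.map π ≤ (⊤ : Subgroup (R ⧸ B)).lowerCentralSeries j := by
    intro j
    induction j with
    | zero => exact le_top
    | succ j ih =>
      exact h1.trans (Subgroup.commutator_mono ih le_rfl)
  exact le_bot_iff.1 ((h2 c).trans hc.le)

theorem le_of_le_sup_pw (hR : IsPGroup p R) {A B : Subgroup R} [A.Normal] [B.Normal]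
    (h : A ≤ B ⊔ ⁅A, (⊤ : Subgroup R)⁆ ⊔ pw p A 1) : A ≤ B := by
  classical
  refine le_of_le_sup_commutator hR ?_
  set C := B ⊔ ⁅A, (⊤ : Subgroup R)⁆ with hC
  rw [← map_mk'_eq_bot]
  set π := QuotientGroup.mk' C
  set A' := A.map π with hA'
  have hcent : ⁅A', (⊤ : Subgroup (R ⧸ C))⁆ = ⊥ := by
    rw [hA', ← map_mk'_top C, ← Subgroup.map_commutator, map_mk'_eq_bot]
    exact le_sup_right
  have hle : A' ≤ pw p A' 1 := by
    refine (Subgroup.map_mono h).trans ?_
    rw [Subgroup.map_sup, map_mk'_eq_bot.2 (le_refl C), bot_sup_eq, map_pw]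
  have hcomm : ∀ a b : ↥A', a * b = b * a := fun a b =>
    Subtype.ext ((mem_center_of_comm_eq_bot hcent a.2 b).eq)
  let f : ↥A' →* ↥A' := MonoidHom.mk' (fun a => a ^ p) fun a b => (Commute.mul_pow (hcomm a b) p)
  have hsur : Function.Surjective f := by
    intro a
    have h1 : pw p A' 1 ≤ f.range.map A'.subtype := by
      refine (Subgroup.closure_le _).2 ?_
      rintro _ ⟨x, hx, rfl⟩
      exact ⟨⟨x, hx⟩ ^ p, ⟨⟨x, hx⟩, rfl⟩, rfl⟩
    obtain ⟨b, ⟨c, rfl⟩, hb⟩ := h1 (hle a.2)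
    exact ⟨c, Subtype.ext hb⟩
  by_contra hne
  have hp' : IsPGroup p ↥A' := (hR.to_quotient C).to_subgroup A'
  haveI : Nontrivial ↥A' := (Subgroup.nontrivial_iff_ne_bot _).2 hne
  obtain ⟨n, hn, hcard⟩ := hp'.nontrivial_iff_card.1 inferInstance
  obtain ⟨a, ha⟩ := exists_prime_orderOf_dvd_card' (G := ↥A') p (hcard ▸ dvd_pow_self p hn.ne')
  have h0 : f a = f 1 := by
    show a ^ p = 1 ^ p
    rw [one_pow, ← ha, pow_orderOf_eq_one]
  rw [(Finite.injective_iff_surjective.2 hsur) h0, orderOf_one] at ha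
  exact hp.out.ne_one ha.symm

end PGroup

/-! ### The commutator of powerfully embedded subgroups -/

section Core

variable [hp : Fact p.Prime]

/-- In the odd case. -/
theorem comm_core_odd {N M : Subgroup R} (hp2 : p ≠ 2) [N.Normal] [M.Normal]
    (hC : pw p ⁅N, M⁆ 1 = ⊥) (hD : ⁅⁅⁅N, M⁆, (⊤ : Subgroup R)⁆, (⊤ : Subgroup R)⁆ = ⊥) :
    ⁅pw p N 1, M⁆ = ⊥ := by
  refine le_bot_iff.1 (comm_pw_succ_le (i := 0) fun x hx y hy => Subgroup.mem_bot.2 ?_)
  have hc : ⁅x, y⁆ ∈ ⁅N, M⁆ := Subgroup.commutator_mem_commutator hx hy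
  have hz : ⁅x, ⁅x, y⁆⁆ ∈ ⁅⁅N, M⁆, (⊤ : Subgroup R)⁆ := by
    rw [← commutatorElement_inv]
    exact inv_mem (Subgroup.commutator_mem_commutator hc (Subgroup.mem_top x))
  have hzc := mem_center_of_comm_eq_bot hD hz
  have hcp : ⁅x, y⁆ ^ p = 1 := Subgroup.mem_bot.1 (hC ▸ pow_mem_pw_succ (i := 0) hc)
  have hzp : ⁅x, ⁅x, y⁆⁆ ^ p = 1 := by rw [← comm_pow_right (hzc _).symm, hcp]; simp
  obtain ⟨k, hk⟩ := dvd_choose_two (p := p) hp2
  rw [comm_pow_left (hzc x) (hzc _), hk, pow_mul, hzp, one_pow, one_mul, hcp]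

/-- In the even case. -/
theorem comm_core_two {N M : Subgroup R} [N.Normal] [M.Normal] (hC : pw 2 ⁅N, M⁆ 2 = ⊥)
    (hD : ⁅⁅⁅N, M⁆, (⊤ : Subgroup R)⁆, (⊤ : Subgroup R)⁆ = ⊥) :
    ⁅pw 2 N 2, M⁆ ≤ pw 2 ⁅⁅N, M⁆, (⊤ : Subgroup R)⁆ 1 := by
  set C := ⁅N, M⁆ with hCdef
  set D := ⁅C, (⊤ : Subgroup R)⁆ with hDdef
  haveI hCn : C.Normal := inferInstance
  haveI hDn : D.Normal := inferInstance
  haveI h1n : (pw 2 D 1).Normal := pw_normal D 1
  haveI h2n : (pw 2 C 1).Normal := pw_normal C 1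
  have hzc : ∀ {z : R}, z ∈ D → ∀ r, Commute z r := fun hz r => mem_center_of_comm_eq_bot hD hz r
  have hC1 : ⁅pw 2 C 1, (⊤ : Subgroup R)⁆ ≤ pw 2 D 1 := comm_pw_succ_le (i := 0) fun c hc n _ => by
    have hd : ⁅c, n⁆ ∈ D := Subgroup.commutator_mem_commutator hc (Subgroup.mem_top n)
    rw [pow_two, commutatorElement_mul_left_eq_conj_mul, (hzc hd c).symm.eq, mul_inv_cancel_right,
      ← pow_two]
    exact pow_mem_pw_succ (i := 0) hd
  have hN1 : ⁅pw 2 N 1, M⁆ ≤ pw 2 C 1 ⊔ D := comm_pw_succ_le (i := 0) fun x hx y hy => by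
    have hc : ⁅x, y⁆ ∈ C := Subgroup.commutator_mem_commutator hx hy
    have hz : ⁅x, ⁅x, y⁆⁆ ∈ D := by
      rw [← commutatorElement_inv]
      exact inv_mem (Subgroup.commutator_mem_commutator hc (Subgroup.mem_top x))
    rw [comm_pow_left (hzc hz x) (hzc hz _)]
    exact mul_mem (Subgroup.mem_sup_right (pow_mem hz _))
      (Subgroup.mem_sup_left (pow_mem_pw_succ (i := 0) hc))
  refine comm_pw_succ_le (i := 1) fun x hx y hy => ?_
  obtain ⟨s, hs, d, hd, he⟩ := Subgroup.mem_sup_of_normal_right.1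
    (hN1 (Subgroup.commutator_mem_commutator hx hy))
  have h1 : ⁅x, ⁅x, y⁆⁆ ∈ pw 2 D 1 := by
    rw [← commutatorElement_inv, ← he, commutatorElement_mul_left_eq_conj_mul,
      commutatorElement_eq_one_iff_mul_comm.2 (hzc hd x).eq, mul_one, mul_inv_cancel, one_mul]
    exact inv_mem (hC1 (Subgroup.commutator_mem_commutator hs (Subgroup.mem_top x)))
  have hzD : ⁅x, ⁅x, y⁆⁆ ∈ D := pw_antitone D (Nat.zero_le 1) h1
  rw [comm_pow_left (hzc hzD x) (hzc hzD _)]
  refine mul_mem (pow_mem h1 _) ?_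
  rw [← he, (hzc hd s).symm.mul_pow]
  refine mul_mem ?_ (pow_mem_pw_succ (i := 0) hd)
  rw [show s ^ 2 = 1 from Subgroup.mem_bot.1 (hC ▸ pow_mem_pw_succ (i := 1) hs)]
  exact one_mem _

end Core

section CommCore

variable [Finite R] [hp : Fact p.Prime]

theorem commutator_core (hR : IsPGroup p R) {N M : Subgroup R} (hN : PE p N) (hM : PE p M)
    (hC : pw p ⁅N, M⁆ (eps p) = ⊥) (hD : ⁅⁅⁅N, M⁆, (⊤ : Subgroup R)⁆, (⊤ : Subgroup R)⁆ = ⊥) :
    ⁅⁅N, M⁆, (⊤ : Subgroup R)⁆ = ⊥ := by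
  haveI := hN.normal
  haveI := hM.normal
  have hC' : pw p ⁅M, N⁆ (eps p) = ⊥ := by rw [Subgroup.commutator_comm]; exact hC
  have hD' : ⁅⁅⁅M, N⁆, (⊤ : Subgroup R)⁆, (⊤ : Subgroup R)⁆ = ⊥ := by
    rw [Subgroup.commutator_comm M]; exact hD
  have hN2 := hN.comm
  have hM2 := hM.comm
  by_cases hp2 : p = 2
  · subst hp2
    have e : eps 2 = 2 := rfl
    rw [e] at hC hC' hN2 hM2
    haveI : (⁅⁅N, M⁆, (⊤ : Subgroup R)⁆).Normal := inferInstance
    haveI : (pw 2 ⁅⁅N, M⁆, (⊤ : Subgroup R)⁆ 1).Normal := pw_normal _ 1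
    have hrot : ⁅⁅N, M⁆, (⊤ : Subgroup R)⁆ ≤ pw 2 ⁅⁅N, M⁆, (⊤ : Subgroup R)⁆ 1 := by
      refine rotate_le ?_ ?_
      · refine (Subgroup.commutator_mono hM2 le_rfl).trans ((comm_core_two hC' hD').trans ?_)
        rw [Subgroup.commutator_comm M N]
      · rw [Subgroup.commutator_comm (⊤ : Subgroup R)]
        exact (Subgroup.commutator_mono hN2 le_rfl).trans (comm_core_two hC hD)
    exact le_bot_iff.1 (le_of_le_sup_pw hR (B := ⊥) (hrot.trans le_sup_right))
  · rw [eps_of_ne_two hp2] at hC hC' hN2 hM2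
    refine Subgroup.commutator_commutator_eq_bot_of_rotate (le_bot_iff.1 ?_) (le_bot_iff.1 ?_)
    · exact (Subgroup.commutator_mono hM2 le_rfl).trans (comm_core_odd hp2 hC' hD').le
    · rw [Subgroup.commutator_comm (⊤ : Subgroup R)]
      exact (Subgroup.commutator_mono hN2 le_rfl).trans (comm_core_odd hp2 hC hD).le

/-- The core of the reversed inclusion in the power rule. -/
theorem pow_core {N M : Subgroup R} (hcomm : ⁅pw p N 1, M⁆ = ⊥)
    (hcen : ⁅pw p ⁅N, M⁆ 1, (⊤ : Subgroup R)⁆ = ⊥) (hp2' : pw p ⁅N, M⁆ 2 = ⊥)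
    (hD : ⁅⁅N, M⁆, (⊤ : Subgroup R)⁆ ≤ pw p ⁅N, M⁆ (eps p)) : pw p ⁅N, M⁆ 1 = ⊥ := by
  have hkill : ∀ {w : R}, w ∈ ⁅⁅N, M⁆, (⊤ : Subgroup R)⁆ → (∀ r, Commute w r) ∧ w ^ p.choose 2 = 1 := by
    intro w hw
    by_cases hp2 : p = 2
    · subst hp2
      have hw1 : w = 1 := Subgroup.mem_bot.1 (hp2' ▸ hD hw)
      exact ⟨fun r => hw1 ▸ Commute.one_left r, by rw [hw1, one_pow]⟩
    · have hw1 : w ∈ pw p ⁅N, M⁆ 1 := by
        have := hD hw
        rwa [eps_of_ne_two hp2] at this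
      obtain ⟨k, hk⟩ := dvd_choose_two (p := p) hp2
      exact ⟨fun r => mem_center_of_comm_eq_bot hcen hw1 r, by
        rw [hk, pow_mul, show w ^ p = 1 from Subgroup.mem_bot.1 (hp2' ▸ pow_mem_pw_succ (i := 1) hw1),
          one_pow]⟩
  refine (Subgroup.closure_eq_bot_iff).2 ?_
  rintro _ ⟨c, hc, rfl⟩
  show c ^ p = 1
  simp only [pw_zero, SetLike.mem_coe] at hc
  rw [Subgroup.commutator_def] at hc
  refine (Subgroup.closure_induction
    (p := fun (c : R) _ => c ∈ ⁅N, M⁆ ∧ c ^ p = 1) ?_ ?_ ?_ ?_ hc).2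
  · rintro _ ⟨x, hx, y, hy, rfl⟩
    have hxy : ⁅x, y⁆ ∈ ⁅N, M⁆ := Subgroup.commutator_mem_commutator hx hy
    refine ⟨hxy, ?_⟩
    have hz : ⁅x, ⁅x, y⁆⁆ ∈ ⁅⁅N, M⁆, (⊤ : Subgroup R)⁆ := by
      rw [← commutatorElement_inv]
      exact inv_mem (Subgroup.commutator_mem_commutator hxy (Subgroup.mem_top x))
    obtain ⟨hzc, hzp⟩ := hkill hz
    have h1 := comm_pow_left (hzc x) (hzc ⁅x, y⁆) p
    rw [hzp, one_mul] at h1
    rw [← h1]
    exact Subgroup.mem_bot.1
      (hcomm ▸ Subgroup.commutator_mem_commutator (pow_mem_pw_succ (i := 0) hx) hy)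
  · exact ⟨one_mem _, one_pow p⟩
  · rintro a b _ _ ⟨haC, ha⟩ ⟨hbC, hb⟩
    obtain ⟨hwc, hwp⟩ := hkill (Subgroup.commutator_mem_commutator hbC (Subgroup.mem_top a))
    exact ⟨mul_mem haC hbC, by rw [mul_pow_comm (hwc a) (hwc b), ha, hb, hwp, one_mul, one_mul]⟩
  · rintro a _ ⟨haC, ha⟩
    exact ⟨inv_mem haC, by rw [inv_pow, ha, inv_one]⟩

end CommCore

section Main

variable [Finite R] [hp : Fact p.Prime] {N M : Subgroup R}

/-- The commutator of powerfully embedded subgroups is powerfully embedded. -/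
theorem PE.commutator (hR : IsPGroup p R) (hN : PE p N) (hM : PE p M) : PE p ⁅N, M⁆ := by
  haveI := hN.normal
  haveI := hM.normal
  haveI hCn : (⁅N, M⁆).Normal := inferInstance
  refine ⟨inferInstance, ?_⟩
  haveI hDn : (⁅⁅N, M⁆, (⊤ : Subgroup R)⁆).Normal := inferInstance
  haveI hPn : (pw p ⁅N, M⁆ (eps p)).Normal := pw_normal _ _
  refine le_of_le_sup_commutator hR ?_
  set T := pw p ⁅N, M⁆ (eps p) ⊔ ⁅⁅⁅N, M⁆, (⊤ : Subgroup R)⁆, (⊤ : Subgroup R)⁆ with hT
  rw [← map_mk'_eq_bot]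
  set π := QuotientGroup.mk' T
  set N' := N.map π with hN'def
  set M' := M.map π with hM'def
  haveI hN' : N'.Normal := hN.normal.map π (QuotientGroup.mk'_surjective T)
  haveI hM' : M'.Normal := hM.normal.map π (QuotientGroup.mk'_surjective T)
  have hC : pw p ⁅N', M'⁆ (eps p) = ⊥ := by
    rw [hN'def, hM'def, ← Subgroup.map_commutator, ← map_pw, map_mk'_eq_bot]
    exact le_sup_left
  have hD : ⁅⁅⁅N', M'⁆, (⊤ : Subgroup (R ⧸ T))⁆, (⊤ : Subgroup (R ⧸ T))⁆ = ⊥ := by
    rw [hN'def, hM'def, ← map_mk'_top T, ← Subgroup.map_commutator, ← Subgroup.map_commutator,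
      ← Subgroup.map_commutator, map_mk'_eq_bot]
    exact le_sup_right
  exact (Subgroup.map_commutator _ _ _).trans (by
    rw [Subgroup.map_commutator, map_mk'_top]
    exact commutator_core (hR.to_quotient T) (hN.map (QuotientGroup.mk'_surjective T))
      (hM.map (QuotientGroup.mk'_surjective T)) hC hD)

/-- One step of the power rule. -/
theorem commutator_pw_one (hR : IsPGroup p R) (hN : PE p N) (hM : PE p M) :
    ⁅pw p N 1, M⁆ = pw p ⁅N, M⁆ 1 := by
  haveI := hN.normal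
  haveI := hM.normal
  haveI hN1 : (pw p N 1).Normal := pw_normal N 1
  haveI hC1 : (pw p ⁅N, M⁆ 1).Normal := pw_normal _ 1
  haveI hC2 : (pw p ⁅N, M⁆ 2).Normal := pw_normal _ 2
  have hC := hN.commutator hR hM
  refine le_antisymm ?_ ?_
  · -- modulo the powers of the commutator the commutator is central
    refine comm_pw_succ_le (i := 0) fun x hx y hy => ?_
    have hc : ⁅x, y⁆ ∈ ⁅N, M⁆ := Subgroup.commutator_mem_commutator hx hy
    rw [← QuotientGroup.eq_one_iff, ← QuotientGroup.mk'_apply, map_commutatorElement, map_pow]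
    set π := QuotientGroup.mk' (pw p ⁅N, M⁆ 1)
    have hz : ⁅π x, ⁅π x, π y⁆⁆ = 1 := by
      rw [← map_commutatorElement, ← map_commutatorElement, QuotientGroup.mk'_apply,
        QuotientGroup.eq_one_iff, ← commutatorElement_inv]
      exact inv_mem (pw_antitone _ (one_le_eps p)
        (hC.comm (Subgroup.commutator_mem_commutator hc (Subgroup.mem_top x))))
    rw [comm_pow_left (by rw [hz]; exact Commute.one_left _) (by rw [hz]; exact Commute.one_left _), hz,
      one_pow, one_mul, ← map_commutatorElement, ← map_pow, QuotientGroup.mk'_apply, QuotientGroup.eq_one_iff]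
    exact pow_mem_pw_succ (i := 0) hc
  · refine le_of_le_sup_pw hR ?_
    rw [pw_pw]
    set T := ⁅pw p N 1, M⁆ ⊔ ⁅pw p ⁅N, M⁆ 1, (⊤ : Subgroup R)⁆ ⊔ pw p ⁅N, M⁆ 2 with hT
    rw [← map_mk'_eq_bot]
    set π := QuotientGroup.mk' T with hπ
    rw [map_pw, Subgroup.map_commutator]
    set N' := N.map π with hN'def
    set M' := M.map π with hM'def
    refine pow_core ?_ ?_ ?_ ?_
    · rw [hN'def, hM'def, ← map_pw, ← Subgroup.map_commutator, map_mk'_eq_bot]
      exact le_sup_left.trans le_sup_left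
    · rw [hN'def, hM'def, ← Subgroup.map_commutator, ← map_pw, ← map_mk'_top T,
        ← Subgroup.map_commutator, map_mk'_eq_bot]
      exact le_sup_right.trans le_sup_left
    · rw [hN'def, hM'def, ← Subgroup.map_commutator, ← map_pw, map_mk'_eq_bot]
      exact le_sup_right
    · have := (hC.map (QuotientGroup.mk'_surjective T)).comm
      rwa [← hπ, Subgroup.map_commutator] at this

theorem PE.pw_one (hR : IsPGroup p R) (hN : PE p N) (htop : PE p (⊤ : Subgroup R)) :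
    PE p (Powerful.pw p N 1) := by
  haveI := hN.normal
  refine ⟨pw_normal N 1, ?_⟩
  rw [commutator_pw_one hR hN htop, pw_pw, add_comm, ← pw_pw]
  exact pw_mono hN.comm 1

theorem PE.pw (hR : IsPGroup p R) (hN : PE p N) (htop : PE p (⊤ : Subgroup R)) (i : ℕ) :
    PE p (Powerful.pw p N i) := by
  induction i with
  | zero => exact hN
  | succ i ih => rw [← pw_pw]; exact ih.pw_one hR htop

theorem PE.derivedSeries (hR : IsPGroup p R) (htop : PE p (⊤ : Subgroup R)) (k : ℕ) :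
    PE p (_root_.derivedSeries R k) := by
  induction k with
  | zero => exact htop
  | succ k ih => rw [derivedSeries_succ]; exact ih.commutator hR ih

theorem commutator_pw_left (hR : IsPGroup p R) (hN : PE p N) (hM : PE p M)
    (htop : PE p (⊤ : Subgroup R)) (i : ℕ) : ⁅Powerful.pw p N i, M⁆ = Powerful.pw p ⁅N, M⁆ i := by
  induction i with
  | zero => rfl
  | succ i ih =>
    rw [← pw_pw, ← pw_pw, commutator_pw_one hR (hN.pw hR htop i) hM, ih]

/-- The power rule. -/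
theorem commutator_pw (hR : IsPGroup p R) (hN : PE p N) (hM : PE p M)
    (htop : PE p (⊤ : Subgroup R)) (i j : ℕ) :
    ⁅Powerful.pw p N i, Powerful.pw p M j⁆ = Powerful.pw p ⁅N, M⁆ (i + j) := by
  rw [commutator_pw_left hR hN (hM.pw hR htop j) htop, Subgroup.commutator_comm,
    commutator_pw_left hR hM hN htop, Subgroup.commutator_comm, pw_pw, add_comm]

end Main

/-! ### The layers of a powerful group -/

section Layers

variable [Finite R] [hp : Fact p.Prime] (hR : IsPGroup p R) (htop : PE p (⊤ : Subgroup R))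
include hR htop

theorem comm_layer_le (i j : ℕ) :
    ⁅pw p (⊤ : Subgroup R) i, pw p (⊤ : Subgroup R) j⁆ ≤ pw p (⊤ : Subgroup R) (i + j + eps p) := by
  rw [commutator_pw hR htop htop htop, add_comm (i + j) (eps p), ← pw_pw _ (eps p) (i + j)]
  exact pw_mono htop.comm _

theorem mul_pow_layer {i : ℕ} {x y : R} (hx : x ∈ pw p (⊤ : Subgroup R) i)
    (hy : y ∈ pw p (⊤ : Subgroup R) i) :
    (x ^ p * y ^ p)⁻¹ * (x * y) ^ p ∈ pw p (⊤ : Subgroup R) (i + 2) := by
  haveI hn : (pw p (⊤ : Subgroup R) (i + 2)).Normal := pw_normal _ _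
  rw [← QuotientGroup.eq, QuotientGroup.mk_mul, ← QuotientGroup.mk'_apply, ← QuotientGroup.mk'_apply,
    ← QuotientGroup.mk'_apply, map_pow, map_pow, map_pow, map_mul]
  set π := QuotientGroup.mk' (pw p (⊤ : Subgroup R) (i + 2))
  have h0 : ∀ {g : R}, g ∈ pw p (⊤ : Subgroup R) (i + 2) → π g = 1 := fun hg =>
    (QuotientGroup.eq_one_iff _).2 hg
  have hw : ⁅y, x⁆ ∈ pw p (⊤ : Subgroup R) (i + eps p) :=
    pw_antitone _ (by omega) (comm_layer_le hR htop i i (Subgroup.commutator_mem_commutator hy hx))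
  have hcomm : ∀ g, Commute (π ⁅y, x⁆) (π g) := fun g => commutatorElement_eq_one_iff_mul_comm.1 (by
    rw [← map_commutatorElement]
    refine h0 (pw_antitone _ ?_ (comm_layer_le hR htop (i + eps p) 0
      (Subgroup.commutator_mem_commutator hw (Subgroup.mem_top g))))
    have := one_le_eps p
    omega)
  have hc1 : Commute ⁅π y, π x⁆ (π x) := by rw [← map_commutatorElement]; exact hcomm x
  have hc2 : Commute ⁅π y, π x⁆ (π y) := by rw [← map_commutatorElement]; exact hcomm y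
  rw [mul_pow_comm hc1 hc2, ← map_commutatorElement]
  symm
  rw [mul_eq_left]
  by_cases hp2 : p = 2
  · subst hp2
    rw [h0 (by simpa [eps] using hw), one_pow]
  · obtain ⟨k, hk⟩ := dvd_choose_two (p := p) hp2
    rw [hk, pow_mul, ← map_pow, h0, one_pow]
    rw [eps_of_ne_two hp2] at hw
    exact pow_mem_pw_succ hw

/-- The `p`-th power map between consecutive layers. -/
noncomputable def powLayer (i : ℕ) :
    haveI : (pw p (⊤ : Subgroup R) (i + 2)).Normal := pw_normal _ _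
    ↥(pw p (⊤ : Subgroup R) i) →*
      ↥(pw p (⊤ : Subgroup R) (i + 1)) ⧸ (pw p (⊤ : Subgroup R) (i + 2)).subgroupOf (pw p (⊤ : Subgroup R) (i + 1)) :=
  haveI : (pw p (⊤ : Subgroup R) (i + 2)).Normal := pw_normal _ _
  MonoidHom.mk' (fun x => QuotientGroup.mk ⟨(x : R) ^ p, pow_mem_pw_succ x.2⟩) fun x y => by
    rw [← QuotientGroup.mk_mul]
    refine (QuotientGroup.eq.2 ?_).symm
    rw [Subgroup.mem_subgroupOf]
    exact mul_pow_layer hR htop x.2 y.2

/-- The layers get smaller; if two consecutive layers have the same size the power map is injective. -/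
theorem relIndex_succ_le (i : ℕ) :
    (pw p (⊤ : Subgroup R) (i + 2)).relIndex (pw p (⊤ : Subgroup R) (i + 1)) ≤
        (pw p (⊤ : Subgroup R) (i + 1)).relIndex (pw p (⊤ : Subgroup R) i) ∧
      ((pw p (⊤ : Subgroup R) (i + 2)).relIndex (pw p (⊤ : Subgroup R) (i + 1)) =
          (pw p (⊤ : Subgroup R) (i + 1)).relIndex (pw p (⊤ : Subgroup R) i) →
        ∀ x ∈ pw p (⊤ : Subgroup R) i, x ^ p ∈ pw p (⊤ : Subgroup R) (i + 2) →
          x ∈ pw p (⊤ : Subgroup R) (i + 1)) := by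
  haveI : (pw p (⊤ : Subgroup R) (i + 2)).Normal := pw_normal _ _
  set f := powLayer hR htop i with hf
  have hle : (pw p (⊤ : Subgroup R) (i + 1)).subgroupOf (pw p (⊤ : Subgroup R) i) ≤ f.ker := fun x hx =>
    (QuotientGroup.eq_one_iff _).2 (Subgroup.mem_subgroupOf.2 (pow_mem_pw_succ (N := ⊤) (i := i + 1) hx))
  have hsur : Function.Surjective f := by
    intro q
    obtain ⟨⟨z, hz⟩, rfl⟩ := QuotientGroup.mk_surjective q
    have key : ∀ z (hz : z ∈ pw p (⊤ : Subgroup R) (i + 1)),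
        (QuotientGroup.mk (⟨z, hz⟩ : ↥(pw p (⊤ : Subgroup R) (i + 1))) :
          _ ⧸ (pw p (⊤ : Subgroup R) (i + 2)).subgroupOf (pw p (⊤ : Subgroup R) (i + 1))) ∈ f.range := by
      intro z hz
      induction hz using Subgroup.closure_induction with
      | mem w hw => obtain ⟨x, hx, rfl⟩ := hw; exact ⟨⟨x, hx⟩, rfl⟩
      | one => exact one_mem _
      | mul a b _ _ ha hb => exact mul_mem ha hb
      | inv a _ ha => exact inv_mem ha
    exact key z hz
  have hker : f.ker.index = (pw p (⊤ : Subgroup R) (i + 2)).relIndex (pw p (⊤ : Subgroup R) (i + 1)) := by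
    rw [Subgroup.index_ker, MonoidHom.range_eq_top.2 hsur, Nat.card_congr Subgroup.topEquiv.toEquiv]
    rfl
  rw [← hker]
  refine ⟨Nat.le_of_dvd (Nat.pos_of_ne_zero Subgroup.index_ne_zero_of_finite)
    (Subgroup.index_dvd_of_le hle), fun heq x hx hxp => ?_⟩
  have h1 := Subgroup.relIndex_mul_index hle
  rw [heq] at h1
  have h2 : ((pw p (⊤ : Subgroup R) (i + 1)).subgroupOf (pw p (⊤ : Subgroup R) i)).relIndex f.ker = 1 :=
    Nat.eq_of_mul_eq_mul_right (Nat.pos_of_ne_zero Subgroup.index_ne_zero_of_finite)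
      (h1.trans (one_mul _).symm)
  have h3 := (Subgroup.relIndex_eq_one.1 h2)
    (show (⟨x, hx⟩ : ↥(pw p (⊤ : Subgroup R) i)) ∈ f.ker from
      (QuotientGroup.eq_one_iff _).2 (Subgroup.mem_subgroupOf.2 hxp))
  exact Subgroup.mem_subgroupOf.1 h3

theorem eq_bot_of_pw_succ_eq {i : ℕ} (h : pw p (⊤ : Subgroup R) (i + 1) = pw p (⊤ : Subgroup R) i) :
    pw p (⊤ : Subgroup R) i = ⊥ := by
  haveI : (pw p (⊤ : Subgroup R) i).Normal := pw_normal _ _
  refine le_bot_iff.1 (le_of_le_sup_pw hR ?_)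
  rw [pw_pw, h]
  exact le_sup_right

end Layers

end Cfsg.Agent.Powerful
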